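import Cfsg.Agent.H895.BR.SpModel
import Cfsg.Agent.H31.BR.CardX
import Cfsg.Agent.H31.BR.CardQ
import Cfsg.Agent.H31.BR.Arith
import Cfsg.Agent.H105.SzSp1

/-!
# The number of totally isotropic `k`-spaces of the symplectic space, transitivity and regularity (helper344, S4891)

* `card_X` : `|X k| ∏_{i < k} (q ^ (i + 1) - 1) = ∏_{i < k} (q ^ (2 (m - i)) - 1)` for `k ≤ m`;
* `finrank_le` : `X k` is empty for `k > m`;
* `trans_X` : `Sp` is transitive on `X k`; `reg` : regularity.
-/

set_option autoImplicit false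

open Cfsg Module Matrix
open Cfsg.Agent.ClassicalGeometry.SympBasic Cfsg.Agent.H2.Pol Cfsg.Agent.H674.BR Cfsg.Agent.H895.BR

namespace Cfsg.Agent.H344.BR

universe u

variable {m : ℕ} {F : Type u} [Field F]

theorem mem_perp_iff {U : Submodule F (Fin m ⊕ Fin m → F)} {v : Fin m ⊕ Fin m → F} :
    v ∈ (spPol m F).perp U ↔ ∀ x ∈ U, sympBilin m F v x = 0 := by
  rw [Pol.mem_perp]
  rfl

/-- `|U^⊥| |U| = q ^ (2 m)` -/
theorem card_perp [Finite F] (U : Submodule F (Fin m ⊕ Fin m → F)) :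
    Nat.card {v : Fin m ⊕ Fin m → F // v ∈ (spPol m F).perp U} * Nat.card U = Nat.card F ^ (2 * m) := by
  have h1 := H31.BR.CardQ.card_ann (sympBilin m F) U fun x _ hx => eq_zero_of_forall_sympForm_left fun y => hx y
  have h2 : Nat.card {v : Fin m ⊕ Fin m → F // v ∈ (spPol m F).perp U} =
      Nat.card {v : Fin m ⊕ Fin m → F // ∀ x ∈ U, sympBilin m F v x = 0} :=
    Nat.card_congr (Equiv.subtypeEquivRight fun v => mem_perp_iff)
  rw [h2, h1, Module.natCard_eq_pow_finrank (K := F), H955.finrank_symp]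

theorem card_X_nat [Finite F] {k : ℕ} (hk : k ≤ m) :
    Nat.card ((spPol m F).X k) * ∏ i ∈ Finset.range k, (Nat.card F ^ (i + 1) - 1) =
      ∏ i ∈ Finset.range k, (Nat.card F ^ (2 * (m - i)) - 1) := by
  refine H31.BR.CardX.card_X (fun x _ => ⟨sympForm_self x, fun _ => trivial⟩) (fun i => Nat.card F ^ (2 * (m - i)) - 1) m
    (fun j hj U => ?_) k hk
  have hq : 1 < Nat.card F := Finite.one_lt_card
  have h1 := card_perp (m := m) U.1
  have h2 : Nat.card {v : Fin m ⊕ Fin m → F // (spPol m F).sing v ∧ v ∈ (spPol m F).perp U.1} =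
      Nat.card {v : Fin m ⊕ Fin m → F // v ∈ (spPol m F).perp U.1} :=
    Nat.card_congr (Equiv.subtypeEquivRight fun v => ⟨fun h => h.2, fun h => ⟨trivial, h⟩⟩)
  have h3 : Nat.card U.1 = Nat.card F ^ j := by
    rw [Module.natCard_eq_pow_finrank (K := F), U.2.2]
  have h4 : Nat.card F ^ (2 * (m - j)) - 1 + 1 = Nat.card F ^ (2 * (m - j)) :=
    Nat.sub_add_cancel (Nat.one_le_pow _ _ (by omega))
  rw [h2, h4]
  rw [h3] at h1
  have h5 : Nat.card F ^ (2 * m) = Nat.card F ^ j * Nat.card F ^ (2 * (m - j)) * Nat.card F ^ j := by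
    rw [← pow_add, ← pow_add]
    congr 1
    omega
  rw [h5] at h1
  exact Nat.eq_of_mul_eq_mul_right (by positivity) h1

/-- **The number of totally isotropic `k`-spaces.** -/
theorem card_X [Fintype F] {k : ℕ} (hk : k ≤ m) :
    Nat.card ((spPol m F).X k) * ∏ i ∈ Finset.range k, (Fintype.card F ^ (i + 1) - 1) =
      ∏ i ∈ Finset.range k, (Fintype.card F ^ (2 * (m - i)) - 1) := by
  have h := card_X_nat (F := F) hk
  rwa [Nat.card_eq_fintype_card (α := F)] at h

/-- the number in the form `[m, k]_q ∏ (q ^ (m - i) + 1)`, multiplied out -/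
theorem card_X' [Fintype F] {k : ℕ} (hk : k ≤ m) :
    Nat.card ((spPol m F).X k) * ∏ i ∈ Finset.range k, (Fintype.card F ^ (i + 1) - 1) =
      (∏ i ∈ Finset.range k, (Fintype.card F ^ (m - i) - 1)) * ∏ i ∈ Finset.range k, (Fintype.card F ^ (m - i) + 1) := by
  rw [card_X hk, ← Finset.prod_mul_distrib]
  refine Finset.prod_congr rfl fun i _ => ?_
  rw [mul_comm 2 (m - i), pow_mul, mul_comm (_ - 1)]
  simpa using Nat.sq_sub_sq (Fintype.card F ^ (m - i)) 1

/-- the numbers in the form of `PolRow` -/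
theorem cc_sp [Finite F] : H31.BR.Arith.CC (Nat.card F) m 1 (fun k => Nat.card ((spPol m F).X k)) :=
  H31.BR.Arith.CC.of_sp fun _ hk => card_X_nat hk

/-- totally isotropic spaces have dimension at most `m` -/
theorem finrank_le [Finite F] {U : Submodule F (Fin m ⊕ Fin m → F)} (hU : (spPol m F).TI U) : finrank F U ≤ m := by
  have h1 : U ≤ (spPol m F).perp U := fun x hx y hy => hU.2 x hx y hy
  have h2 : Nat.card U ≤ Nat.card {v : Fin m ⊕ Fin m → F // v ∈ (spPol m F).perp U} :=
    Nat.card_le_card_of_injective (fun x : U => (⟨x.1, h1 x.2⟩ : {v : Fin m ⊕ Fin m → F // v ∈ (spPol m F).perp U}))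
      fun x y h => Subtype.ext (by
        have := congrArg Subtype.val h
        exact this)
  have h3 := card_perp (m := m) U
  have h4 : Nat.card U * Nat.card U ≤ Nat.card F ^ (2 * m) := by
    rw [← h3]
    exact Nat.mul_le_mul_right _ h2
  rw [Module.natCard_eq_pow_finrank (K := F) (V := U), ← pow_add] at h4
  have h5 := (Nat.pow_le_pow_iff_right (Finite.one_lt_card (α := F))).1 h4
  omega

theorem isEmpty_X [Finite F] {k : ℕ} (hk : m < k) : IsEmpty ((spPol m F).X k) :=
  ⟨fun U => by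
    have := finrank_le U.2.1
    rw [U.2.2] at this
    omega⟩

/-- **`Sp` is transitive on the totally isotropic `k`-spaces.** -/
theorem trans_X {k : ℕ} (U W : (spPol m F).X k) :
    ∃ g : Matrix.symplecticGroup (Fin m) F, (sp_acts (m := m) (F := F)).act k g U = W := by
  let bU := Module.finBasisOfFinrankEq F U.1 U.2.2
  let bW := Module.finBasisOfFinrankEq F W.1 W.2.2
  have hU : LinearIndependent F (fun i => (bU i : Fin m ⊕ Fin m → F)) :=
    bU.linearIndependent.map' U.1.subtype U.1.ker_subtype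
  have hW : LinearIndependent F (fun i => (bW i : Fin m ⊕ Fin m → F)) :=
    bW.linearIndependent.map' W.1.subtype W.1.ker_subtype
  obtain ⟨g, hg, hgi⟩ := H105.SzSp.witt (H955.isSp_sympBilin m F) _ _ hU hW fun i j => by
    have h1 : sympForm m F (bU i) (bU j) = 0 := spPol_ti_iff.1 U.2.1 _ (bU i).2 _ (bU j).2
    have h2 : sympForm m F (bW i) (bW j) = 0 := spPol_ti_iff.1 W.2.1 _ (bW i).2 _ (bW j).2
    exact h1.trans h2.symm
  obtain ⟨A, hA⟩ := exists_spRho_eq (g : (Fin m ⊕ Fin m → F) →ₗ[F] (Fin m ⊕ Fin m → F)) hg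
  refine ⟨A, ?_⟩
  apply Subtype.ext
  rw [Acts.act_val]
  have h3 : U.1.map (spRho m F A : (Fin m ⊕ Fin m → F) →ₗ[F] (Fin m ⊕ Fin m → F)) ≤ W.1 := by
    rintro _ ⟨x, hx, rfl⟩
    have h4 : x = ∑ i, bU.repr ⟨x, hx⟩ i • (bU i : Fin m ⊕ Fin m → F) := by
      have h5 := bU.sum_repr ⟨x, hx⟩
      have h6 := congrArg (Submodule.subtype U.1) h5
      rw [map_sum] at h6
      exact h6.symm
    rw [h4, map_sum]
    refine W.1.sum_mem fun i _ => ?_
    rw [map_smul]
    refine W.1.smul_mem _ ?_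
    have h7 : spRho m F A (bU i : Fin m ⊕ Fin m → F) = bW i := (hA _).trans (hgi i)
    change spRho m F A (bU i : Fin m ⊕ Fin m → F) ∈ W.1
    rw [h7]
    exact (bW i).2
  exact Submodule.eq_of_le_of_finrank_eq h3 (by
    rw [LinearEquiv.finrank_map_eq (spRho m F A) U.1, U.2.2, W.2.2])

/-- **Regularity.** -/
theorem reg [Finite F] : ∃ cc, Pol.Reg (spPol m F) cc := by
  classical
  have key : ∀ k (U W : (spPol m F).X k), Nat.card {Z : (spPol m F).X (k + 1) // U.1 ≤ Z.1} =
      Nat.card {Z : (spPol m F).X (k + 1) // W.1 ≤ Z.1} := by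
    intro k U W
    obtain ⟨g, rfl⟩ := trans_X U W
    have hinj : Function.Injective (spRho m F g : (Fin m ⊕ Fin m → F) →ₗ[F] (Fin m ⊕ Fin m → F)) :=
      (spRho m F g).injective
    let e : (spPol m F).X (k + 1) ≃ (spPol m F).X (k + 1) :=
      { toFun := fun Z => (sp_acts (m := m) (F := F)).act (k + 1) g Z
        invFun := fun Z => (sp_acts (m := m) (F := F)).act (k + 1) g⁻¹ Z
        left_inv := fun Z => by
          change (sp_acts (m := m) (F := F)).act (k + 1) g⁻¹ ((sp_acts (m := m) (F := F)).act (k + 1) g Z) = Z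
          rw [← Acts.act_mul, inv_mul_cancel, Acts.act_one]
        right_inv := fun Z => by
          change (sp_acts (m := m) (F := F)).act (k + 1) g ((sp_acts (m := m) (F := F)).act (k + 1) g⁻¹ Z) = Z
          rw [← Acts.act_mul, mul_inv_cancel, Acts.act_one] }
    refine Nat.card_congr (e.subtypeEquiv fun Z => ?_)
    change U.1 ≤ Z.1 ↔ ((sp_acts (m := m) (F := F)).act k g U).1 ≤ ((sp_acts (m := m) (F := F)).act (k + 1) g Z).1
    rw [Acts.act_val, Acts.act_val]
    exact (Submodule.map_le_map_iff_of_injective hinj _ _).symm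
  refine ⟨fun k => if h : Nonempty ((spPol m F).X k) then
    Nat.card {Z : (spPol m F).X (k + 1) // h.some.1 ≤ Z.1} else 0, fun k U => ?_⟩
  have h : Nonempty ((spPol m F).X k) := ⟨U⟩
  simp only [dif_pos h]
  exact key k _ _

end Cfsg.Agent.H344.BR
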